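import Mathlib
import Cfsg.Agent.Lib.Helper8.PG.Defs
import Cfsg.Agent.Lib.Helper14.NegOne
import Cfsg.Agent.Lib.Helper14.Forms
import Cfsg.Agent.Lib.Helper14.OmegaInv

/-!
# PG package [NEGREFL]: the spinor norm of `-(reflection along v₀)` for `quadFormOdd n`

`-1` is the product of the reflections along the orthogonal basis
`e₀, xᵢ + yᵢ, xᵢ - yᵢ` (values `1, 1, -1`), so `-(refl v₀)` is a product of `2 n + 2` reflections
with product of values `Q v₀ * (-1) ^ n`.
-/

set_option autoImplicit false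

namespace Cfsg.Agent.Lib.Helper14.PG

open Matrix Cfsg.Agent.Lib.Helper8.PG

universe u

section vectors

variable (n : ℕ) (F : Type u) [Field F]

/-- The basis vector `e₀`. -/
def nrE : OI n → F := Pi.single (Sum.inl ()) 1

/-- `xᵢ + yᵢ`. -/
def nrU (i : Fin n) : OI n → F :=
  Pi.single (Sum.inr (Sum.inl i)) 1 + Pi.single (Sum.inr (Sum.inr i)) 1

/-- `xᵢ - yᵢ`. -/
def nrW (i : Fin n) : OI n → F :=
  Pi.single (Sum.inr (Sum.inl i)) 1 - Pi.single (Sum.inr (Sum.inr i)) 1

/-- The list `x₁ + y₁, x₁ - y₁, …`. -/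
def nrTail : List (OI n → F) := (List.finRange n).flatMap (fun i => [nrU n F i, nrW n F i])

/-- The orthogonal basis `e₀, x₁ + y₁, x₁ - y₁, …` as a list. -/
def nrList : List (OI n → F) := nrE n F :: nrTail n F

theorem polar_nrE (x : OI n → F) :
    QuadraticMap.polar ⇑(oddQF n F) (nrE n F) x = 2 * x (Sum.inl ()) := by
  rw [oddQF_coe]; exact odd_polar_unit n F x

theorem polar_nrU (i : Fin n) (x : OI n → F) :
    QuadraticMap.polar ⇑(oddQF n F) (nrU n F i) x =
      x (Sum.inr (Sum.inr i)) + x (Sum.inr (Sum.inl i)) := by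
  unfold nrU
  rw [QuadraticMap.polar_add_left, oddQF_coe, odd_polar_inl, odd_polar_inr]

theorem polar_nrW (i : Fin n) (x : OI n → F) :
    QuadraticMap.polar ⇑(oddQF n F) (nrW n F i) x =
      x (Sum.inr (Sum.inr i)) - x (Sum.inr (Sum.inl i)) := by
  unfold nrW
  rw [QuadraticMap.polar_sub_left, oddQF_coe, odd_polar_inl, odd_polar_inr]

theorem q_nrE : oddQF n F (nrE n F) = 1 := by
  show ⇑(oddQF n F) _ = _
  rw [oddQF_coe]
  simp [Cfsg.quadFormOdd, nrE]

theorem q_nrU (i : Fin n) : oddQF n F (nrU n F i) = 1 := by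
  show ⇑(oddQF n F) _ = _
  rw [oddQF_coe]
  simp [Cfsg.quadFormOdd, nrU, Pi.single_apply]

theorem q_nrW (i : Fin n) : oddQF n F (nrW n F i) = -1 := by
  show ⇑(oddQF n F) _ = _
  rw [oddQF_coe]
  simp [Cfsg.quadFormOdd, nrW, Pi.single_apply]

theorem nrList_ne : ∀ x ∈ nrList n F, oddQF n F x ≠ 0 := by
  intro x hx
  unfold nrList nrTail at hx
  rw [List.mem_cons, List.mem_flatMap] at hx
  rcases hx with rfl | ⟨i, -, hx⟩
  · rw [q_nrE]; exact one_ne_zero
  · simp only [List.mem_cons, List.not_mem_nil, or_false] at hx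
    rcases hx with rfl | rfl
    · rw [q_nrU]; exact one_ne_zero
    · rw [q_nrW]; exact neg_ne_zero.mpr one_ne_zero

theorem nrList_pairwise :
    (nrList n F).Pairwise (fun u v => QuadraticMap.polar ⇑(oddQF n F) u v = 0) := by
  unfold nrList nrTail
  rw [List.pairwise_cons]
  constructor
  · intro x hx
    rw [List.mem_flatMap] at hx
    obtain ⟨i, -, hx⟩ := hx
    rw [polar_nrE]
    simp only [List.mem_cons, List.not_mem_nil, or_false] at hx
    rcases hx with rfl | rfl
    · simp [nrU]
    · simp [nrW]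
  · rw [List.pairwise_flatMap]
    constructor
    · intro i _
      rw [List.pairwise_pair, polar_nrU]
      simp [nrW]
    · refine (List.nodup_finRange n).imp ?_
      intro i j hij x hx y hy
      have hji : j ≠ i := Ne.symm hij
      simp only [List.mem_cons, List.not_mem_nil, or_false] at hx hy
      rcases hx with rfl | rfl <;> rcases hy with rfl | rfl
      · rw [polar_nrU]; simp [nrU, Pi.single_apply, hij, hji]
      · rw [polar_nrU]; simp [nrW, Pi.single_apply, hij, hji]
      · rw [polar_nrW]; simp [nrU, Pi.single_apply, hij, hji]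
      · rw [polar_nrW]; simp [nrW, Pi.single_apply, hij, hji]

theorem nrList_prod : ((nrList n F).map ⇑(oddQF n F)).prod = (-1) ^ n := by
  have key : ∀ is : List (Fin n),
      ((is.flatMap (fun i => [nrU n F i, nrW n F i])).map ⇑(oddQF n F)).prod =
        (-1) ^ is.length := by
    intro is
    induction is with
    | nil => simp
    | cons a is ih =>
      rw [List.flatMap_cons, List.map_append, List.prod_append, ih]
      simp [q_nrU, q_nrW, pow_succ]
  unfold nrList nrTail
  rw [List.map_cons, List.prod_cons, key, q_nrE, one_mul, List.length_finRange]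

theorem nrList_refl (h2 : (2 : F) ≠ 0) :
    ((nrList n F).map (Cfsg.reflectionMatrix ⇑(oddQF n F))).prod = -1 := by
  set M := ((nrList n F).map (Cfsg.reflectionMatrix ⇑(oddQF n F))).prod with hMdef
  have hneg : ∀ x ∈ nrList n F, M *ᵥ x = -x := fun x hx =>
    prod_refl_ortho_neg (oddQF n F) (nrList n F) (nrList_ne n F) (nrList_pairwise n F) x hx
  have hmemE : nrE n F ∈ nrList n F := List.mem_cons_self
  have hmemU : ∀ i, nrU n F i ∈ nrList n F := by
    intro i
    unfold nrList nrTail
    rw [List.mem_cons, List.mem_flatMap]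
    exact Or.inr ⟨i, List.mem_finRange i, by simp⟩
  have hmemW : ∀ i, nrW n F i ∈ nrList n F := by
    intro i
    unfold nrList nrTail
    rw [List.mem_cons, List.mem_flatMap]
    exact Or.inr ⟨i, List.mem_finRange i, by simp⟩
  have hlin : M.mulVecLin = (-1 : Matrix (OI n) (OI n) F).mulVecLin := by
    apply (Pi.basisFun F (OI n)).ext
    intro k
    rw [Pi.basisFun_apply, mulVecLin_apply, mulVecLin_apply, neg_mulVec, one_mulVec]
    rcases k with ⟨⟩ | k | k
    · exact hneg _ hmemE
    · have e : (Pi.single (Sum.inr (Sum.inl k)) 1 : OI n → F) =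
          (2 : F)⁻¹ • (nrU n F k + nrW n F k) := by
        unfold nrU nrW
        rw [show ∀ a b : OI n → F, a + b + (a - b) = (2 : F) • a from
          fun a b => by rw [two_smul]; abel, smul_smul, inv_mul_cancel₀ h2, one_smul]
      rw [e, mulVec_smul, mulVec_add, hneg _ (hmemU k), hneg _ (hmemW k), ← neg_add, smul_neg]
    · have e : (Pi.single (Sum.inr (Sum.inr k)) 1 : OI n → F) =
          (2 : F)⁻¹ • (nrU n F k - nrW n F k) := by
        unfold nrU nrW
        rw [show ∀ a b : OI n → F, a + b - (a - b) = (2 : F) • b from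
          fun a b => by rw [two_smul]; abel, smul_smul, inv_mul_cancel₀ h2, one_smul]
      rw [e, mulVec_smul, mulVec_sub, hneg _ (hmemU k), hneg _ (hmemW k), ← neg_sub', smul_neg]
  rw [ext_iff_mulVec]
  intro x
  have := congrArg (fun f => f x) hlin
  simpa only [mulVecLin_apply] using this

end vectors

/-- **[NEGREFL]**. -/
theorem pkgNegRefl : PkgNegRefl.{u} := by
  intro F _ _ hodd n z hz v₀ hv₀ hfix hneg
  have h2 : (2 : F) ≠ 0 := two_ne_zero_of_card_odd hodd
  have hQnd := oddQF_nondegenerate n F h2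
  set Mz : Matrix (OI n) (OI n) F :=
    ((z : Matrix.GeneralLinearGroup (OI n) F) : Matrix (OI n) (OI n) F) with hMz
  have hcv : oddQF n F v₀ = Cfsg.quadFormOdd n F v₀ := congrFun (oddQF_coe n F) v₀
  have hv₀' : oddQF n F v₀ ≠ 0 := by rw [hcv]; exact hv₀
  have hneg' : ∀ w, QuadraticMap.polar ⇑(oddQF n F) v₀ w = 0 → Mz *ᵥ w = -w := by
    intro w hw
    apply hneg
    rw [← oddQF_coe n F]
    exact hw
  have hl : ∀ u ∈ v₀ :: nrList n F, oddQF n F u ≠ 0 := by
    intro u hu
    rcases List.mem_cons.mp hu with rfl | hu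
    · exact hv₀'
    · exact nrList_ne n F u hu
  have hM : ((v₀ :: nrList n F).map (Cfsg.reflectionMatrix ⇑(oddQF n F))).prod = Mz := by
    rw [List.map_cons, List.prod_cons, nrList_refl n F h2, mul_neg, mul_one, ext_iff_mulVec]
    intro x
    rw [neg_mulVec, reflectionMatrix_mulVec]
    set c := (oddQF n F v₀)⁻¹ * QuadraticMap.polar ⇑(oddQF n F) v₀ x with hc
    have hw : QuadraticMap.polar ⇑(oddQF n F) v₀ (x - (2⁻¹ * c) • v₀) = 0 := by
      rw [QuadraticMap.polar_sub_right, QuadraticMap.polar_smul_right, polar_self_eq,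
        smul_eq_mul, hc]
      field_simp
      ring
    have h1 := hneg' _ hw
    rw [mulVec_sub, mulVec_smul, hfix] at h1
    have h3 : Mz *ᵥ x = -(x - (2⁻¹ * c) • v₀) + (2⁻¹ * c) • v₀ := by rw [← h1]; abel
    have e : c • v₀ = (2⁻¹ * c) • v₀ + (2⁻¹ * c) • v₀ := by
      rw [← add_smul]
      congr 1
      field_simp
      ring
    rw [h3, e]
    abel
  obtain ⟨-, hsq⟩ := (exists_mem_omega_iff h2 (oddQF n F) hQnd _ (oddQF_coe n F)
    (v₀ :: nrList n F) hl Mz hM).mp ⟨z, hz, rfl⟩
  rw [List.map_cons, List.prod_cons, nrList_prod, mul_comm] at hsq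
  have hcv' : ⇑(oddQF n F) v₀ = Cfsg.quadFormOdd n F v₀ := hcv
  rw [hcv'] at hsq
  exact hsq

end Cfsg.Agent.Lib.Helper14.PG
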